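import Mathlib
import Cfsg.Agent.Lib.Helper50.HUPT.Defs

/-!
# HUPT (S3360), package [E26]: part (C) and the final glue

`pkgE26_of` derives `PkgE26` from the packages ORB, ABN, DEG, CEN and the two parts
(A) (`E26A`: normal abelian subgroups have order 1, 3 or 7, with `|K| = 4` resp. `8`) and
(B) (`E26B`: the pure group theory).
-/

set_option autoImplicit false

universe u v

namespace Cfsg.Agent.Lib.Helper46.HUPT

open Cfsg.Agent.Lib.Helper50.HUPT

/-- part (A) of [E26] -/
def E26A : Prop :=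
  ∀ {q : ℕ} [Fact q.Prime] {V : Type u} [AddCommGroup V] [Module (ZMod q) V] [Finite V]
    [Nontrivial V] {G : Type v} [Group G] [Finite G] (ρ : G →* (V ≃ₗ[ZMod q] V)),
    Function.Injective ρ → Tr ρ → NI ρ → q = 2 → Nat.card V = 64 →
    ∀ A : Subgroup G, A.Normal → Ab A →
      (Nat.card A = 1 ∨ Nat.card A = 3 ∨ Nat.card A = 7) ∧
      (Nat.card A = 3 → Nat.card (KA ρ A) = 4) ∧ (Nat.card A = 7 → Nat.card (KA ρ A) = 8)

/-- part (B) of [E26] -/
def E26B : Prop :=
  ∀ {G : Type v} [Group G] [Finite G], Group.IsSolvable G → 63 ∣ Nat.card G →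
    (∀ A : Subgroup G, A.Normal → Ab A → Nat.card A = 1 ∨ Nat.card A = 3 ∨ Nat.card A = 7) →
    ∃ (s : ℕ) (N M : Subgroup G), (s = 3 ∨ s = 7) ∧ N.Normal ∧ M.Normal ∧ Ab N ∧
      Nat.card N = s ∧ N ≤ M ∧ (∀ a ∈ M, ∀ n ∈ N, a * n = n * a) ∧ ZM M = N ∧ Cl2 M ∧
      s ^ 2 ≤ (Subgroup.center ↥M).index

section lin

variable {q : ℕ} [Fact q.Prime] {V : Type u} [AddCommGroup V] [Module (ZMod q) V]
  {G : Type v} [Group G]

theorem e26_toE_mul (ρ : G →* (V ≃ₗ[ZMod q] V)) (a b : G) :
    toE ρ (a * b) = toE ρ a * toE ρ b := by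
  apply LinearMap.ext
  intro v
  simp [toE]

theorem e26_toE_one (ρ : G →* (V ≃ₗ[ZMod q] V)) : toE ρ 1 = 1 := by
  apply LinearMap.ext
  intro v
  simp [toE]

theorem e26_toE_pow (ρ : G →* (V ≃ₗ[ZMod q] V)) (a : G) (k : ℕ) :
    toE ρ (a ^ k) = toE ρ a ^ k := by
  induction k with
  | zero => rw [pow_zero, pow_zero, e26_toE_one]
  | succ k ih => rw [pow_succ, pow_succ, e26_toE_mul, ih]

theorem e26_toE_inj (ρ : G →* (V ≃ₗ[ZMod q] V)) (hinj : Function.Injective ρ) :
    Function.Injective (toE ρ) := by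
  intro a b h
  apply hinj
  apply LinearEquiv.ext
  intro v
  have h1 := congrArg (fun f : Module.End (ZMod q) V => f v) h
  simpa [toE] using h1

/-- an element commuting with `N` commutes with the algebra generated by `ρ(N)` -/
theorem e26_comm_KA (ρ : G →* (V ≃ₗ[ZMod q] V)) (N : Subgroup G) (g : G)
    (hg : ∀ n ∈ N, g * n = n * g) : ∀ f ∈ KA ρ N, toE ρ g * f = f * toE ρ g := by
  intro f hf
  unfold KA at hf
  induction hf using Algebra.adjoin_induction with
  | mem x hx =>
    obtain ⟨n, hn, rfl⟩ := hx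
    rw [← e26_toE_mul, ← e26_toE_mul, hg n hn]
  | algebraMap r => exact (Algebra.commutes r _).symm
  | add x y _ _ hx hy => rw [mul_add, add_mul, hx, hy]
  | mul x y _ _ hx hy => rw [← mul_assoc, hx, mul_assoc, hy, mul_assoc]

/-- in a "field" `K ⊆ End V` with at most four elements every nonzero element has a power
`f ^ e = 1` with `1 ≤ e ≤ 4` -/
theorem e26_pow_eq_one (K : Subalgebra (ZMod q) (Module.End (ZMod q) V)) (hFld : IsFld K)
    (hK : Nat.card K = 4) (f : Module.End (ZMod q) V) (hf : f ∈ K) (hne : f ≠ 0) :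
    ∃ e : ℕ, 1 ≤ e ∧ e ≤ 4 ∧ f ^ e = 1 := by
  haveI : Finite K := Nat.finite_of_card_ne_zero (by rw [hK]; norm_num)
  have hinj : Function.Injective f := hFld.2 f hf hne
  have hinjpow : ∀ k : ℕ, Function.Injective (f ^ k) := by
    intro k
    rw [Module.End.coe_pow]
    exact hinj.iterate k
  have hninj : ¬ Function.Injective
      (fun i : Fin 5 => (⟨f ^ (i : ℕ), K.pow_mem hf i⟩ : K)) := by
    intro h
    have h5 := Nat.card_le_card_of_injective _ h
    rw [hK, Nat.card_eq_fintype_card, Fintype.card_fin] at h5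
    omega
  obtain ⟨i, j, hφ, hij⟩ := Function.not_injective_iff.1 hninj
  have hφ' : f ^ (i : ℕ) = f ^ (j : ℕ) := congrArg Subtype.val hφ
  have key : ∀ a b : ℕ, a < b → b ≤ 4 → f ^ a = f ^ b → ∃ e : ℕ, 1 ≤ e ∧ e ≤ 4 ∧ f ^ e = 1 := by
    intro a b hab hb h
    refine ⟨b - a, by omega, by omega, ?_⟩
    apply LinearMap.ext
    intro w
    apply hinjpow a
    have h1 : f ^ b = f ^ a * f ^ (b - a) := by
      rw [← pow_add]
      congr 1
      omega
    have h2 : (f ^ a) ((f ^ (b - a)) w) = (f ^ b) w := by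
      rw [h1]
      rfl
    rw [h2, ← h]
    rfl
  have hi4 : (i : ℕ) ≤ 4 := by have := i.2; omega
  have hj4 : (j : ℕ) ≤ 4 := by have := j.2; omega
  have hijn : (i : ℕ) ≠ (j : ℕ) := fun h => hij (Fin.ext h)
  rcases lt_or_gt_of_ne hijn with h | h
  · exact key _ _ h hj4 hφ'
  · exact key _ _ h hi4 hφ'.symm

end lin

/-- an element of order `7` normalising a group of order `27` centralises it -/
theorem e26_cent_of_order7 {G : Type v} [Group G] [Finite G] (M : Subgroup G) (hM : M.Normal)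
    (hcard : Nat.card M = 27) (y : G) (hy : orderOf y = 7) : ∀ a ∈ M, y * a = a * y := by
  haveI := hM
  haveI : Fact (Nat.Prime 7) := ⟨by norm_num⟩
  have hZ : IsPGroup 7 (Subgroup.zpowers y) := by
    apply IsPGroup.of_card (n := 1)
    rw [Nat.card_zpowers, hy, pow_one]
  letI : MulAction (Subgroup.zpowers y) ↥M :=
    MulAction.compHom ↥M ((MulAut.conjNormal (H := M)).comp (Subgroup.zpowers y).subtype)
  have hsmul : ∀ (z : Subgroup.zpowers y) (a : ↥M), ((z • a : ↥M) : G) = (z : G) * a * (z : G)⁻¹ :=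
    fun z a => rfl
  have hmod := hZ.card_modEq_card_fixedPoints ↥M
  have hfix : ∀ a : ↥M, a ∈ MulAction.fixedPoints (Subgroup.zpowers y) ↥M ↔
      a ∈ (Subgroup.centralizer ({y} : Set G)).subgroupOf M := by
    intro a
    rw [Subgroup.mem_subgroupOf, Subgroup.mem_centralizer_iff, MulAction.mem_fixedPoints]
    constructor
    · intro h g hg
      rw [Set.mem_singleton_iff] at hg
      subst hg
      have h1 := congrArg Subtype.val (h ⟨g, Subgroup.mem_zpowers g⟩)
      rw [hsmul] at h1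
      have h2 : g * (a : G) = (a : G) * g := by
        calc g * (a : G) = g * (a : G) * g⁻¹ * g := by group
          _ = (a : G) * g := by rw [h1]
      exact h2
    · intro h z
      apply Subtype.ext
      rw [hsmul]
      have hy1 : y * (a : G) = (a : G) * y := h y rfl
      have hz : (z : G) * (a : G) = (a : G) * (z : G) := by
        obtain ⟨k, hk⟩ := Subgroup.mem_zpowers_iff.1 z.2
        rw [← hk]
        exact ((Commute.zpow_left (show Commute y (a : G) from hy1) k)).eq
      rw [hz]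
      group
  have hcardfix : Nat.card (MulAction.fixedPoints (Subgroup.zpowers y) ↥M) =
      Nat.card ((Subgroup.centralizer ({y} : Set G)).subgroupOf M) :=
    Nat.card_congr (Equiv.subtypeEquivRight hfix)
  rw [hcardfix, hcard] at hmod
  have hdvd : Nat.card ((Subgroup.centralizer ({y} : Set G)).subgroupOf M) ∣ 27 := by
    rw [← hcard]
    exact Subgroup.card_subgroup_dvd_card _
  have h27 : Nat.card ((Subgroup.centralizer ({y} : Set G)).subgroupOf M) = 27 := by
    have h3 : (27 : ℕ) = 3 ^ 3 := by norm_num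
    rw [h3] at hdvd
    obtain ⟨k, hk, hkc⟩ := (Nat.dvd_prime_pow Nat.prime_three).1 hdvd
    rw [hkc] at hmod ⊢
    unfold Nat.ModEq at hmod
    interval_cases k <;> simp_all
  have htop : (Subgroup.centralizer ({y} : Set G)).subgroupOf M = ⊤ :=
    Subgroup.eq_top_of_card_eq _ (by rw [h27, hcard])
  intro a ha
  have h1 : (⟨a, ha⟩ : ↥M) ∈ (Subgroup.centralizer ({y} : Set G)).subgroupOf M := by
    rw [htop]
    exact Subgroup.mem_top _
  rw [Subgroup.mem_subgroupOf, Subgroup.mem_centralizer_iff] at h1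
  exact h1 y rfl

/-- the centre of `↥M` has the order of `ZM M` -/
theorem e26_card_center {G : Type v} [Group G] (M : Subgroup G) :
    Nat.card (Subgroup.center ↥M) = Nat.card (ZM M) := by
  have hmap : (Subgroup.center ↥M).map M.subtype = ZM M := by
    ext g
    rw [Subgroup.mem_map]
    unfold ZM
    rw [Subgroup.mem_inf]
    constructor
    · rintro ⟨z, hz, rfl⟩
      refine ⟨z.2, ?_⟩
      rw [Subgroup.mem_centralizer_iff]
      intro b hb
      have h1 := (Subgroup.mem_center_iff.1 hz) ⟨b, hb⟩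
      exact congrArg Subtype.val h1
    · rintro ⟨hgM, hgc⟩
      refine ⟨⟨g, hgM⟩, ?_, rfl⟩
      rw [Subgroup.mem_center_iff]
      intro b
      apply Subtype.ext
      exact (Subgroup.mem_centralizer_iff.1 hgc) b b.2
  rw [← hmap]
  exact (Subgroup.card_map_of_injective (Subgroup.subtype_injective M)).symm

/-- [E26] from its parts (A) and (B) -/
theorem pkgE26_of (hOrb : PkgOrb.{u, v}) (hAbn : PkgAbn.{u, v}) (hDeg : PkgDeg.{u, v})
    (hCen : PkgCen.{u, v}) (hA : E26A.{u, v}) (hB : E26B.{v}) : PkgE26.{u, v} := by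
  intro q _ V _ _ _ _ G _ _ ρ hsolv hinj htr hq hcard hni
  have h63 : 63 ∣ Nat.card G := by
    have h := hOrb ρ htr
    rw [hcard] at h
    exact h
  obtain ⟨s, N, M, hs, hNn, hMn, hNab, hNcard, hNM, hMN, hZM, hCl2, hidx⟩ :=
    hB hsolv h63 (fun A hAn hAb => (hA ρ hinj htr hni hq hcard A hAn hAb).1)
  have hAN := hA ρ hinj htr hni hq hcard N hNn hNab
  have hFld : IsFld (KA ρ N) := (hAbn ρ hinj htr N hNn hNab).2.1
  have h1 : ∀ a ∈ M, (∀ b ∈ M, a * b = b * a) → toE ρ a ∈ KA ρ N := by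
    intro a ha hab
    have haN : a ∈ N := by
      rw [← hZM]
      unfold ZM
      rw [Subgroup.mem_inf]
      refine ⟨ha, ?_⟩
      rw [Subgroup.mem_centralizer_iff]
      intro b hb
      exact (hab b hb).symm
    exact Algebra.subset_adjoin ⟨a, haN, rfl⟩
  have h2 : ∀ a ∈ M, ∀ f ∈ KA ρ N, toE ρ a * f = f * toE ρ a := fun a ha =>
    e26_comm_KA ρ N a (hMN a ha)
  obtain ⟨m, hm, hidx2⟩ := hDeg ρ hinj M (KA ρ N) hFld hCl2 h1 h2
  rcases hs with rfl | rfl
  · have hK : Nat.card (KA ρ N) = 4 := hAN.2.1 hNcard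
    have hm3 : m = 3 := by
      have h4 : (4 : ℕ) ^ m = 4 ^ 3 := by
        rw [← hK, ← hm, hcard, hK]
        norm_num
      exact Nat.pow_right_injective (le_refl 2 |>.trans (by norm_num)) h4
    subst hm3
    have hidx9 : (Subgroup.center ↥M).index = 3 ^ 2 := le_antisymm hidx2 hidx
    have hcen := hCen ρ hinj M (KA ρ N) hFld hCl2 h1 h2 3 hm hidx9
    have hcardZ : Nat.card (Subgroup.center ↥M) = 3 := by
      rw [e26_card_center, hZM, hNcard]
    have hcardM : Nat.card M = 27 := by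
      have h5 := Subgroup.card_mul_index (Subgroup.center ↥M)
      rw [hcardZ, hidx9] at h5
      omega
    haveI : Fact (Nat.Prime 7) := ⟨by norm_num⟩
    obtain ⟨y, hy⟩ := exists_prime_orderOf_dvd_card' 7
      (Dvd.dvd.trans (by norm_num : 7 ∣ 63) h63)
    have hyM : ∀ a ∈ M, y * a = a * y := e26_cent_of_order7 M hMn hcardM y hy
    have hyK : toE ρ y ∈ KA ρ N :=
      hcen y hyM (e26_comm_KA ρ N y (fun n hn => hyM n (hNM hn)))
    have hne : toE ρ y ≠ 0 := by
      intro h0
      obtain ⟨w, hw⟩ := exists_ne (0 : V)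
      have h6 : toE ρ y w = 0 := by rw [h0]; rfl
      have h7 : ρ y w = 0 := h6
      exact hw ((ρ y).map_eq_zero_iff.1 h7)
    obtain ⟨e, he1, he4, hpow⟩ := e26_pow_eq_one (KA ρ N) hFld hK (toE ρ y) hyK hne
    have hye : y ^ e = 1 := by
      apply e26_toE_inj ρ hinj
      rw [e26_toE_pow, hpow, e26_toE_one]
    have h8 := orderOf_dvd_of_pow_eq_one hye
    rw [hy] at h8
    have h9 := Nat.le_of_dvd (by omega) h8
    omega
  · have hK : Nat.card (KA ρ N) = 8 := hAN.2.2 hNcard
    have hm2 : m = 2 := by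
      have h8 : (8 : ℕ) ^ m = 8 ^ 2 := by
        rw [← hK, ← hm, hcard, hK]
        norm_num
      exact Nat.pow_right_injective (by norm_num) h8
    subst hm2
    omega

end Cfsg.Agent.Lib.Helper46.HUPT
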